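import Mathlib

/-!
# Nilpotence of `[P] - r[R]` in the Grothendieck group of finite projective modules

`Grp R` is the group completion of the monoid of isomorphism classes of finite projective modules,
`twist P` the endomorphism `[N] ↦ [P ⊗ N]`. If `P` has constant rank `r` then `(r - twist P)^k` kills
`[R]` for some `k`, the proof being a `ℤ/2`-graded Koszul complex of local isomorphisms `Rʳ → P`.
-/

universe u

open scoped TensorProduct

namespace GrothLib.K0Nilp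

variable (R : Type u) [CommRing R]

/-- A finite projective module. -/
structure FP where
  M : Type u
  [grp : AddCommGroup M]
  [mod : Module R M]
  [fin : Module.Finite R M]
  [proj : Module.Projective R M]

attribute [instance] FP.grp FP.mod FP.fin FP.proj

instance : Setoid (FP R) where
  r A B := Nonempty (A.M ≃ₗ[R] B.M)
  iseqv := ⟨fun A => ⟨LinearEquiv.refl R A.M⟩, fun ⟨e⟩ => ⟨e.symm⟩, fun ⟨e⟩ ⟨e'⟩ => ⟨e ≪≫ₗ e'⟩⟩

/-- Isomorphism classes of finite projective modules. -/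
def Cls : Type (u + 1) := Quotient (inferInstance : Setoid (FP R))

instance {M : Type u} [AddCommGroup M] [Module R M] [Module.Projective R M] (n : ℕ) :
    Module.Projective R (Fin n → M) :=
  Module.Projective.of_equiv (DFinsupp.linearEquivFunOnFintype (R := R) (M := fun _ : Fin n => M))

variable {R}

def cls (A : FP R) : Cls R := Quotient.mk _ A

theorem cls_eq {A B : FP R} (e : A.M ≃ₗ[R] B.M) : cls A = cls B := Quotient.sound ⟨e⟩

instance : Zero (Cls R) := ⟨cls ⟨PUnit.{u + 1}⟩⟩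

instance : Add (Cls R) where
  add := Quotient.map₂ (fun A B => ⟨A.M × B.M⟩) fun _ _ ⟨e⟩ _ _ ⟨e'⟩ => ⟨e.prodCongr e'⟩

theorem cls_add (A B : FP R) : cls A + cls B = cls ⟨A.M × B.M⟩ := rfl

theorem zero_def : (0 : Cls R) = cls ⟨PUnit.{u + 1}⟩ := rfl

instance : AddCommMonoid (Cls R) where
  add_assoc := by
    rintro ⟨A⟩ ⟨B⟩ ⟨C⟩
    exact cls_eq (LinearEquiv.prodAssoc R A.M B.M C.M)
  zero_add := by
    rintro ⟨A⟩
    exact cls_eq (A := ⟨PUnit.{u + 1} × A.M⟩) LinearEquiv.uniqueProd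
  add_zero := by
    rintro ⟨A⟩
    exact cls_eq (A := ⟨A.M × PUnit.{u + 1}⟩) LinearEquiv.prodUnique
  add_comm := by
    rintro ⟨A⟩ ⟨B⟩
    exact cls_eq (LinearEquiv.prodComm R A.M B.M)
  nsmul := nsmulRec

variable (R)

/-- The Grothendieck group. -/
abbrev Grp : Type (u + 1) := Algebra.GrothendieckAddGroup (Cls R)

variable {R}

noncomputable def gcls (A : FP R) : Grp R := Algebra.GrothendieckAddGroup.of (cls A)

theorem gcls_eq {A B : FP R} (e : A.M ≃ₗ[R] B.M) : gcls A = gcls B := by rw [gcls, gcls, cls_eq e]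

theorem gcls_add (A B : FP R) : gcls A + gcls B = gcls ⟨A.M × B.M⟩ := by
  rw [gcls, gcls, gcls, ← cls_add, map_add]

variable (R) in
/-- The class of the free module of rank one. -/
noncomputable def unit : Grp R := gcls ⟨R⟩

variable (P : Type u) [AddCommGroup P] [Module R P] [Module.Finite R P] [Module.Projective R P]

/-- Tensoring by `P` on isomorphism classes. -/
noncomputable def twist₀ : Cls R →+ Cls R where
  toFun := Quotient.map (fun A => ⟨P ⊗[R] A.M⟩) fun _ _ ⟨e⟩ => ⟨e.lTensor P⟩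
  map_zero' := cls_eq (A := ⟨P ⊗[R] PUnit.{u + 1}⟩) (B := ⟨PUnit.{u + 1}⟩)
    (haveI : Subsingleton (P ⊗[R] PUnit.{u + 1}) := inferInstance; LinearEquiv.ofSubsingleton _ _)
  map_add' := by
    rintro ⟨A⟩ ⟨B⟩
    exact cls_eq (TensorProduct.prodRight R R P A.M B.M)

/-- Tensoring by `P` on the Grothendieck group. -/
noncomputable def twist : Module.End ℤ (Grp R) :=
  (Algebra.GrothendieckAddGroup.lift
    ((Algebra.GrothendieckAddGroup.of (M := Cls R)).comp (twist₀ P))).toIntLinearMap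

theorem twist_gcls (A : FP R) : twist P (gcls A) = gcls ⟨P ⊗[R] A.M⟩ := by
  show Algebra.GrothendieckAddGroup.lift _ (Algebra.GrothendieckAddGroup.of (cls A)) = _
  rw [← AddMonoidHom.comp_apply, ← Algebra.GrothendieckAddGroup.lift_symm_apply,
    Equiv.symm_apply_apply]
  rfl

theorem twist_pow_unit : ∀ n : ℕ, ∃ (_ : Module.Finite R (TensorPower R n P))
    (_ : Module.Projective R (TensorPower R n P)), (twist P ^ n) (unit R) = gcls ⟨TensorPower R n P⟩ := by
  intro n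
  induction n with
  | zero =>
    let e : TensorPower R 0 P ≃ₗ[R] R := PiTensorProduct.isEmptyEquiv (R := R) (s := fun _ => P) (Fin 0)
    haveI : Module.Finite R (TensorPower R 0 P) := Module.Finite.equiv e.symm
    haveI : Module.Projective R (TensorPower R 0 P) := Module.Projective.of_equiv e.symm
    exact ⟨inferInstance, inferInstance, gcls_eq e.symm⟩
  | succ n ih =>
    obtain ⟨_, _, h⟩ := ih
    let e : P ⊗[R] TensorPower R n P ≃ₗ[R] TensorPower R (n + 1) P :=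
      TensorProduct.comm R P (TensorPower R n P) ≪≫ₗ
        (PiTensorProduct.subsingletonEquiv (R := R) (s := fun _ : Fin 1 => P) 0).symm.lTensor _ ≪≫ₗ
        TensorPower.mulEquiv
    haveI : Module.Finite R (TensorPower R (n + 1) P) := Module.Finite.equiv e
    haveI : Module.Projective R (TensorPower R (n + 1) P) := Module.Projective.of_equiv e
    refine ⟨inferInstance, inferInstance, ?_⟩
    rw [pow_succ', Module.End.mul_apply, h, twist_gcls]
    exact gcls_eq e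

theorem gcls_pi (E : FP R) : ∀ n : ℕ, gcls (R := R) ⟨Fin n → E.M⟩ = n • gcls E := by
  intro n
  induction n with
  | zero =>
    rw [zero_smul, ← map_zero (Algebra.GrothendieckAddGroup.of (M := Cls R)), zero_def]
    exact gcls_eq (A := ⟨Fin 0 → E.M⟩) (B := ⟨PUnit.{u + 1}⟩) (LinearEquiv.ofSubsingleton _ _)
  | succ n ih =>
    rw [succ_nsmul', ← ih, gcls_add]
    exact gcls_eq (A := ⟨Fin (n + 1) → E.M⟩) (B := ⟨E.M × (Fin n → E.M)⟩)
      (Fin.consLinearEquiv R fun _ : Fin (n + 1) => E.M).symm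

theorem exists_stableIso {A B : FP R} (h : gcls A = gcls B) :
    ∃ m : ℕ, Nonempty ((A.M × (Fin m → R)) ≃ₗ[R] (B.M × (Fin m → R))) := by
  obtain ⟨⟨c, _⟩, hc₀⟩ := (AddLocalization.addMonoidOf (⊤ : AddSubmonoid (Cls R))).eq_iff_exists.mp h
  have hc : c + cls A = c + cls B := hc₀
  clear hc₀
  revert hc
  refine Quotient.inductionOn c fun C hc => ?_
  obtain ⟨e⟩ := Quotient.exact hc
  obtain ⟨m, π, hπ⟩ := Module.Finite.exists_fin' R C.M
  obtain ⟨σ, hσ⟩ := Module.projective_lifting_property π LinearMap.id hπ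
  have hσ' : Function.LeftInverse π σ := LinearMap.congr_fun hσ
  let t : (Fin m → R) ≃ₗ[R] C.M × LinearMap.ker π :=
    LinearEquiv.ofLinearMap (π.prod ((LinearMap.id - σ ∘ₗ π).codRestrict _ fun x => by simp [hσ' (π x)]))
      (σ.coprod (LinearMap.ker π).subtype)
      (LinearMap.ext fun x => Prod.ext (by simp [hσ' x.1]) (Subtype.ext (by simp [hσ' x.1])))
      (LinearMap.ext fun x => by simp)
  refine ⟨m, ⟨?_⟩⟩
  let e' : (A.M × C.M) ≃ₗ[R] B.M × C.M := LinearEquiv.prodComm R _ _ ≪≫ₗ e ≪≫ₗ LinearEquiv.prodComm R _ _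
  exact (LinearEquiv.refl R A.M).prodCongr t ≪≫ₗ (LinearEquiv.prodAssoc R A.M C.M _).symm ≪≫ₗ
    e'.prodCongr (LinearEquiv.refl R _) ≪≫ₗ LinearEquiv.prodAssoc R B.M C.M _ ≪≫ₗ
    (LinearEquiv.refl R B.M).prodCongr t.symm

/-- An invertible homotopy gives an isomorphism of the even and odd parts. -/
theorem equiv_of_homotopy {E₀ E₁ : Type u} [AddCommGroup E₀] [Module R E₀] [AddCommGroup E₁] [Module R E₁]
    (a : E₀ →ₗ[R] E₁) (b : E₁ →ₗ[R] E₀) (p : E₀ →ₗ[R] E₁) (q : E₁ →ₗ[R] E₀)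
    (hba : ∀ x, b (a x) = 0) (hab : ∀ y, a (b y) = 0)
    (h₀ : ∀ x, q (a x) + b (p x) = x) (h₁ : ∀ y, a (q y) + p (b y) = y) :
    Nonempty (E₀ ≃ₗ[R] E₁) := by
  have haqa : ∀ x, a (q (a x)) = a x := fun x => by
    have h := congrArg a (h₀ x); rwa [map_add, hab, add_zero] at h
  have hbpb : ∀ y, b (p (b y)) = b y := fun y => by
    have h := congrArg b (h₁ y); rwa [map_add, hba, zero_add] at h
  let p' : E₀ →ₗ[R] E₁ := p ∘ₗ b ∘ₗ p
  let q' : E₁ →ₗ[R] E₀ := q ∘ₗ a ∘ₗ q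
  have hqp : ∀ x, q' (p' x) = 0 := fun x => by
    show q (a (q (p (b (p x))))) = 0
    have h := h₁ (p (b (p x)))
    rw [hbpb] at h
    rw [add_eq_right.mp h, map_zero]
  have hpq : ∀ y, p' (q' y) = 0 := fun y => by
    show p (b (p (q (a (q y))))) = 0
    have h := h₀ (q (a (q y)))
    rw [haqa] at h
    rw [add_eq_left.mp h, map_zero]
  refine ⟨LinearEquiv.ofLinearMap (a + p') (b + q') ?_ ?_⟩
  · refine LinearMap.ext fun y => ?_
    show a (b y + q' y) + p' (b y + q' y) = y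
    rw [map_add, map_add, hab, hpq, zero_add, add_zero]
    show a (q (a (q y))) + p (b (p (b y))) = y
    rw [haqa, hbpb]; exact h₁ y
  · refine LinearMap.ext fun x => ?_
    show b (a x + p' x) + q' (a x + p' x) = x
    rw [map_add, map_add, hba, hqp, zero_add, add_zero]
    show b (p (b (p x))) + q (a (q (a x))) = x
    rw [haqa, hbpb, add_comm]; exact h₀ x

open LinearMap in
/-- The graded Koszul complex of a family of scaled isomorphisms `Rʳ → P`. -/
theorem exists_complex (r : ℕ) {F : Type u} [AddCommGroup F] [Module R F] [Module.Finite R F]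
    [Module.Projective R F] (hF : ∀ E : FP R, gcls ⟨F ⊗[R] E.M⟩ = r • gcls E)
    {ι : Type*} (f : ι → F →ₗ[R] P) (g : ι → P →ₗ[R] F)
    (s : ι → R) (hgf : ∀ i x, g i (f i x) = s i • x) (hfg : ∀ i y, f i (g i y) = s i • y)
    (l : List ι) : ∃ (E₀ E₁ : FP R) (a : E₀.M →ₗ[R] E₁.M) (b : E₁.M →ₗ[R] E₀.M),
      (∀ x, b (a x) = 0) ∧ (∀ y, a (b y) = 0) ∧
      gcls E₀ - gcls E₁ = ((((r : Module.End ℤ (Grp R)) - twist P) ^ l.length : Module.End ℤ (Grp R))) (unit R) ∧
      ∀ i ∈ l, ∃ (p : E₀.M →ₗ[R] E₁.M) (q : E₁.M →ₗ[R] E₀.M),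
        (∀ x, q (a x) + b (p x) = s i • x) ∧ (∀ y, a (q y) + p (b y) = s i • y) := by
  induction l with
  | nil =>
    refine ⟨⟨R⟩, ⟨PUnit.{u + 1}⟩, 0, 0, fun _ => rfl, fun _ => rfl, ?_, by simp⟩
    rw [List.length_nil, pow_zero, Module.End.one_apply]
    show gcls ⟨R⟩ - Algebra.GrothendieckAddGroup.of (0 : Cls R) = _
    rw [map_zero, sub_zero]; rfl
  | cons j l ih =>
    obtain ⟨E₀, E₁, a, b, hba, hab, hcls, hh⟩ := ih
    let X₀ : FP R := ⟨(F ⊗[R] E₀.M) × (P ⊗[R] E₁.M)⟩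
    let X₁ : FP R := ⟨(P ⊗[R] E₀.M) × (F ⊗[R] E₁.M)⟩
    let A : (F ⊗[R] E₀.M) × (P ⊗[R] E₁.M) →ₗ[R] (P ⊗[R] E₀.M) × (F ⊗[R] E₁.M) :=
      LinearMap.prod ((f j).rTensor E₀.M ∘ₗ fst R _ _ - b.lTensor P ∘ₗ snd R _ _)
        (a.lTensor F ∘ₗ fst R _ _)
    let B : (P ⊗[R] E₀.M) × (F ⊗[R] E₁.M) →ₗ[R] (F ⊗[R] E₀.M) × (P ⊗[R] E₁.M) :=
      LinearMap.prod (b.lTensor F ∘ₗ snd R _ _)
        ((f j).rTensor E₁.M ∘ₗ snd R _ _ - a.lTensor P ∘ₗ fst R _ _)
    refine ⟨X₀, X₁, A, B, fun x => ?_, fun y => ?_, ?_, ?_⟩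
    · suffices h : B ∘ₗ A = 0 from LinearMap.congr_fun h x
      ext <;> simp [A, B, hba, hab]
    · suffices h : A ∘ₗ B = 0 from LinearMap.congr_fun h y
      ext <;> simp [A, B, hba, hab]
    · rw [List.length_cons, pow_succ', Module.End.mul_apply, ← hcls, LinearMap.sub_apply,
        ← gcls_add ⟨F ⊗[R] E₀.M⟩ ⟨P ⊗[R] E₁.M⟩, ← gcls_add ⟨P ⊗[R] E₀.M⟩ ⟨F ⊗[R] E₁.M⟩,
        hF, hF, map_sub (twist P), twist_gcls, twist_gcls, Module.End.natCast_apply, smul_sub]
      abel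
    · intro i hi
      rcases List.mem_cons.mp hi with rfl | hi
      · refine ⟨LinearMap.prod 0 ((g i).rTensor E₁.M ∘ₗ snd R _ _),
          LinearMap.prod ((g i).rTensor E₀.M ∘ₗ fst R _ _) 0, fun x => ?_, fun y => ?_⟩
        · suffices h : LinearMap.prod ((g i).rTensor E₀.M ∘ₗ fst R _ _) 0 ∘ₗ A +
              B ∘ₗ LinearMap.prod 0 ((g i).rTensor E₁.M ∘ₗ snd R _ _) = s i • LinearMap.id from
            LinearMap.congr_fun h x
          ext <;> simp [A, B, hgf, hfg, TensorProduct.smul_tmul']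
        · suffices h : A ∘ₗ LinearMap.prod ((g i).rTensor E₀.M ∘ₗ fst R _ _) 0 +
              LinearMap.prod 0 ((g i).rTensor E₁.M ∘ₗ snd R _ _) ∘ₗ B = s i • LinearMap.id from
            LinearMap.congr_fun h y
          ext <;> simp [A, B, hgf, hfg, TensorProduct.smul_tmul']
      · obtain ⟨p, q, hp, hq⟩ := hh i hi
        have hp' : ∀ x, b (p x) + q (a x) = s i • x := fun x => (add_comm _ _).trans (hp x)
        have hq' : ∀ y, p (b y) + a (q y) = s i • y := fun y => (add_comm _ _).trans (hq y)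
        refine ⟨LinearMap.prod (-(q.lTensor P) ∘ₗ snd R _ _) (p.lTensor F ∘ₗ fst R _ _),
          LinearMap.prod (q.lTensor F ∘ₗ snd R _ _) (-(p.lTensor P) ∘ₗ fst R _ _), fun x => ?_, fun y => ?_⟩
        · suffices h : LinearMap.prod (q.lTensor F ∘ₗ snd R _ _) (-(p.lTensor P) ∘ₗ fst R _ _) ∘ₗ A +
              B ∘ₗ LinearMap.prod (-(q.lTensor P) ∘ₗ snd R _ _) (p.lTensor F ∘ₗ fst R _ _) = s i • LinearMap.id from
            LinearMap.congr_fun h x
          ext <;> simp [A, B, ← TensorProduct.tmul_add, ← TensorProduct.tmul_smul, hp, hq, hp', hq']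
        · suffices h : A ∘ₗ LinearMap.prod (q.lTensor F ∘ₗ snd R _ _) (-(p.lTensor P) ∘ₗ fst R _ _) +
              LinearMap.prod (-(q.lTensor P) ∘ₗ snd R _ _) (p.lTensor F ∘ₗ fst R _ _) ∘ₗ B = s i • LinearMap.id from
            LinearMap.congr_fun h y
          ext <;> simp [A, B, ← TensorProduct.tmul_add, ← TensorProduct.tmul_smul, hp, hq, hp', hq']

end GrothLib.K0Nilp
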